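/-
The chain of stabilisers of the letters on the lines of the long root elements of the Chevalley group of type G₂.
-/
import Cfsg.Agent.Lib.Iso.G24Chk

set_option autoImplicit false

namespace Cfsg.Agent.Lib.Iso.G24

open Cfsg.Agent.Lib.TC Cfsg.Agent.Lib.TC.Fast Cfsg.Agent.Lib.Mat Cfsg.Agent.Lib.Iso.G24Data

/-- The permutations of the lines. -/
noncomputable def tb : Tbl where
  n := 1365
  ng := 6
  T := tO
  inv := fun g => g
  hT := by decide +kernel
  hinv := fun g hg => ⟨hg, rfl⟩
  hTT := by decide +kernel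

theorem hlet : ∀ w ∈ SW, ∀ g ∈ w, g < tb.ng := by decide +kernel

theorem L7 : 1 ≤ Nat.card (tb.gp (SW.drop 26)) := Tbl.gp_drop_length tb SW 26 (by decide +kernel)

theorem fix6 : relsOk tO (SW.drop 26) 905 = true := by decide +kernel

theorem orb6 : orbFold tO (fun g => wordAt SW (Nat.add g 24)) (SW.length - 24) 1365 es6 (Nat.shiftLeft (nat_lit 1) (nat_lit 905)) = true := by decide +kernel

theorem L6 : 4 ≤ Nat.card (tb.gp (SW.drop 24)) :=
  Tbl.levelD tb SW hlet 24 26 (by decide) 905 (by decide +kernel) fix6 es6 orb6 1 4 L7 (by decide +kernel)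

theorem fix5 : relsOk tO (SW.drop 24) 68 = true := by decide +kernel

theorem orb5 : orbFold tO (fun g => wordAt SW (Nat.add g 21)) (SW.length - 21) 1365 es5 (Nat.shiftLeft (nat_lit 1) (nat_lit 68)) = true := by decide +kernel

theorem L5 : 16 ≤ Nat.card (tb.gp (SW.drop 21)) :=
  Tbl.levelD tb SW hlet 21 24 (by decide) 68 (by decide +kernel) fix5 es5 orb5 4 16 L6 (by decide +kernel)

theorem fix4 : relsOk tO (SW.drop 21) 543 = true := by decide +kernel

theorem orb4 : orbFold tO (fun g => wordAt SW (Nat.add g 18)) (SW.length - 18) 1365 es4 (Nat.shiftLeft (nat_lit 1) (nat_lit 543)) = true := by decide +kernel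

theorem L4 : 192 ≤ Nat.card (tb.gp (SW.drop 18)) :=
  Tbl.levelD tb SW hlet 18 21 (by decide) 543 (by decide +kernel) fix4 es4 orb4 16 192 L5 (by decide +kernel)

theorem fix3 : relsOk tO (SW.drop 18) 1226 = true := by decide +kernel

theorem orb3 : orbFold tO (fun g => wordAt SW (Nat.add g 14)) (SW.length - 14) 1365 es3 (Nat.shiftLeft (nat_lit 1) (nat_lit 1226)) = true := by decide +kernel

theorem L3 : 3072 ≤ Nat.card (tb.gp (SW.drop 14)) :=
  Tbl.levelD tb SW hlet 14 18 (by decide) 1226 (by decide +kernel) fix3 es3 orb3 192 3072 L4 (by decide +kernel)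

theorem fix2 : relsOk tO (SW.drop 14) 414 = true := by decide +kernel

theorem orb2 : orbFold tO (fun g => wordAt SW (Nat.add g 10)) (SW.length - 10) 1365 es2 (Nat.shiftLeft (nat_lit 1) (nat_lit 414)) = true := by decide +kernel

theorem L2 : 9216 ≤ Nat.card (tb.gp (SW.drop 10)) :=
  Tbl.levelD tb SW hlet 10 14 (by decide) 414 (by decide +kernel) fix2 es2 orb2 3072 9216 L3 (by decide +kernel)

theorem fix1 : relsOk tO (SW.drop 10) 106 = true := by decide +kernel

theorem orb1 : orbFold tO (fun g => wordAt SW (Nat.add g 6)) (SW.length - 6) 1365 es1 (Nat.shiftLeft (nat_lit 1) (nat_lit 106)) = true := by decide +kernel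

theorem L1 : 184320 ≤ Nat.card (tb.gp (SW.drop 6)) :=
  Tbl.levelD tb SW hlet 6 10 (by decide) 106 (by decide +kernel) fix1 es1 orb1 9216 184320 L2 (by decide +kernel)

theorem fix0 : relsOk tO (SW.drop 6) 304 = true := by decide +kernel

theorem orb0 : orbFold tO (fun g => wordAt SW (Nat.add g 0)) (SW.length - 0) 1365 es0 (Nat.shiftLeft (nat_lit 1) (nat_lit 304)) = true := by decide +kernel

theorem L0 : 251596800 ≤ Nat.card (tb.gp (SW.drop 0)) :=
  Tbl.levelD tb SW hlet 0 6 (by decide) 304 (by decide +kernel) fix0 es0 orb0 184320 251596800 L1 (by decide +kernel)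

end Cfsg.Agent.Lib.Iso.G24
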