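/-
The chain of stabilisers of the generators on the isotropic lines of the unitary space of dimension six.
-/
import Cfsg.Agent.Lib.Iso.U62Chk

set_option autoImplicit false

namespace Cfsg.Agent.Lib.Iso.U62

open Cfsg.Agent.Lib.TC Cfsg.Agent.Lib.TC.Fast Cfsg.Agent.Lib.Mat Cfsg.Agent.Lib.Iso.U62Data

/-- The permutations of the lines. -/
noncomputable def tb : Tbl where
  n := 693
  ng := 9
  T := tO
  inv := fun g => g
  hT := by decide +kernel
  hinv := fun g hg => ⟨hg, rfl⟩
  hTT := by decide +kernel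

theorem hlet : ∀ w ∈ SW, ∀ g ∈ w, g < tb.ng := by decide +kernel

theorem L9 : 1 ≤ Nat.card (tb.gp (SW.drop 40)) := Tbl.gp_drop_length tb SW 40 (by decide +kernel)

theorem fix6 : relsOk tO (SW.drop 40) 333 = true := by decide +kernel

theorem orb6 : orbFold tO (fun g => wordAt SW (Nat.add g 39)) (SW.length - 39) 693 es6 (Nat.shiftLeft (nat_lit 1) (nat_lit 333)) = true := by decide +kernel

theorem L6 : 2 ≤ Nat.card (tb.gp (SW.drop 39)) :=
  Tbl.levelD tb SW hlet 39 40 (by decide) 333 (by decide +kernel) fix6 es6 orb6 1 2 L9 (by decide +kernel)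

theorem fix5 : relsOk tO (SW.drop 39) 25 = true := by decide +kernel

theorem orb5 : orbFold tO (fun g => wordAt SW (Nat.add g 35)) (SW.length - 35) 693 es5 (Nat.shiftLeft (nat_lit 1) (nat_lit 25)) = true := by decide +kernel

theorem L5 : 16 ≤ Nat.card (tb.gp (SW.drop 35)) :=
  Tbl.levelD tb SW hlet 35 39 (by decide) 25 (by decide +kernel) fix5 es5 orb5 2 16 L6 (by decide +kernel)

theorem fix4 : relsOk tO (SW.drop 35) 196 = true := by decide +kernel

theorem orb4 : orbFold tO (fun g => wordAt SW (Nat.add g 26)) (SW.length - 26) 693 es4 (Nat.shiftLeft (nat_lit 1) (nat_lit 196)) = true := by decide +kernel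

theorem L4 : 512 ≤ Nat.card (tb.gp (SW.drop 26)) :=
  Tbl.levelD tb SW hlet 26 35 (by decide) 196 (by decide +kernel) fix4 es4 orb4 16 512 L5 (by decide +kernel)

theorem fix3 : relsOk tO (SW.drop 26) 394 = true := by decide +kernel

theorem orb3 : orbFold tO (fun g => wordAt SW (Nat.add g 20)) (SW.length - 20) 693 es3 (Nat.shiftLeft (nat_lit 1) (nat_lit 394)) = true := by decide +kernel

theorem L3 : 24576 ≤ Nat.card (tb.gp (SW.drop 20)) :=
  Tbl.levelD tb SW hlet 20 26 (by decide) 394 (by decide +kernel) fix3 es3 orb3 512 24576 L4 (by decide +kernel)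

theorem fix2 : relsOk tO (SW.drop 20) 275 = true := by decide +kernel

theorem orb2 : orbFold tO (fun g => wordAt SW (Nat.add g 15)) (SW.length - 15) 693 es2 (Nat.shiftLeft (nat_lit 1) (nat_lit 275)) = true := by decide +kernel

theorem L2 : 73728 ≤ Nat.card (tb.gp (SW.drop 15)) :=
  Tbl.levelD tb SW hlet 15 20 (by decide) 275 (by decide +kernel) fix2 es2 orb2 24576 73728 L3 (by decide +kernel)

theorem fix1 : relsOk tO (SW.drop 15) 258 = true := by decide +kernel

theorem orb1 : orbFold tO (fun g => wordAt SW (Nat.add g 9)) (SW.length - 9) 693 es1 (Nat.shiftLeft (nat_lit 1) (nat_lit 258)) = true := by decide +kernel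

theorem L1 : 13271040 ≤ Nat.card (tb.gp (SW.drop 9)) :=
  Tbl.levelD tb SW hlet 9 15 (by decide) 258 (by decide +kernel) fix1 es1 orb1 73728 13271040 L2 (by decide +kernel)

theorem fix0 : relsOk tO (SW.drop 9) 134 = true := by decide +kernel

theorem orb0 : orbFold tO (fun g => wordAt SW (Nat.add g 0)) (SW.length - 0) 693 es0 (Nat.shiftLeft (nat_lit 1) (nat_lit 134)) = true := by decide +kernel

theorem L0 : 9196830720 ≤ Nat.card (tb.gp (SW.drop 0)) :=
  Tbl.levelD tb SW hlet 0 9 (by decide) 134 (by decide +kernel) fix0 es0 orb0 13271040 9196830720 L1 (by decide +kernel)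

end Cfsg.Agent.Lib.Iso.U62
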